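import Mathlib
import Cfsg.Agent.FastGrp
import Cfsg.Agent.Prune
set_option linter.all false
prune_inst 0x7f00000000000000000000000000000000000000000000000000000000000000000000000000000000000000000000000000000000000000000000000000000000000000000000000000000000000000003fffffffffffffffffffffffffffbeffbdffffffff
open scoped Cfsg.Agent.FastGrp

/-!
# S1920: finite subgroups of `SL₂(k)`, `char k ≠ 3`, have no quotient `A₆` (helper754)
-/

set_option autoImplicit false

namespace Cfsg.Agent.H754.Co3

open Matrix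

section two

variable {k : Type*} [Field k]

theorem one_add_nil {E : Matrix (Fin 2) (Fin 2) k} (hE : E * E = 0) (n : ℕ) : (1 + E) ^ n = 1 + (n : k) • E := by
  induction n with
  | zero => simp only [_root_.pow_zero, _root_.Nat.cast_zero, _root_.zero_smul, _root_.add_zero]
  | succ n ih =>
    rw [pow_succ, ih, mul_add, mul_one, add_mul, one_mul, smul_mul_assoc, hE, smul_zero, add_zero]
    push_cast
    rw [add_smul, one_smul, add_assoc]

/-- an element of `SL₂` of order prime to the characteristic with a fixed vector is trivial -/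
theorem eq_one_of_fix {M : Matrix (Fin 2) (Fin 2) k} (hdet : M.det = 1) {v : Fin 2 → k} (hv : v ≠ 0)
    (hM : M *ᵥ v = v) {n : ℕ} (hn : (n : k) ≠ 0) (hMn : M ^ n = 1) : M = 1 := by
  have h1 : (M - 1).det = 0 := by
    rw [← Matrix.exists_mulVec_eq_zero_iff]
    exact ⟨v, hv, by rw [sub_mulVec, one_mulVec, hM, sub_self]⟩
  have h2 : (M - 1) * (M - 1) = 0 := by
    have e := M.det_fin_two
    rw [hdet] at e
    rw [det_fin_two] at h1
    simp only [Matrix.sub_apply, one_apply_eq, ne_eq, one_ne_zero, zero_ne_one, not_false_eq_true, one_apply_ne,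
      sub_zero] at h1
    have h3 : M 0 0 + M 1 1 = 2 := by linear_combination -h1 - e
    ext i j
    fin_cases i <;> fin_cases j <;>
      simp only [Fin.zero_eta, Fin.mk_one, Fin.isValue, mul_apply, Fin.sum_univ_two, Matrix.sub_apply, one_apply_eq, ne_eq,
        one_ne_zero, zero_ne_one, not_false_eq_true, one_apply_ne, sub_zero, Matrix.zero_apply]
    · linear_combination M 0 0 * h3 + e
    · linear_combination M 0 1 * h3
    · linear_combination M 1 0 * h3
    · linear_combination M 1 1 * h3 + e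
  have h3 := one_add_nil h2 n
  rw [add_sub_cancel, hMn] at h3
  have h4 : (n : k) • (M - 1) = 0 := by
    rwa [eq_comm, add_eq_left] at h3
  exact sub_eq_zero.1 ((smul_eq_zero.1 h4).resolve_left hn)

/-- eigenvectors of a non-scalar matrix -/
theorem exists_mul {X : Matrix (Fin 2) (Fin 2) k} {c : k} (hX : X ≠ c • (1 : Matrix (Fin 2) (Fin 2) k)) {v w : Fin 2 → k}
    (hv : v ≠ 0) (hXv : X *ᵥ v = c • v) (hXw : X *ᵥ w = c • w) : ∃ d : k, w = d • v := by
  have e0 := congrFun hXv 0
  have e1 := congrFun hXv 1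
  have f0 := congrFun hXw 0
  have f1 := congrFun hXw 1
  simp only [mulVec, dotProduct, Fin.sum_univ_two, Pi.smul_apply, smul_eq_mul] at e0 e1 f0 f1
  by_cases hd : v 0 * w 1 - v 1 * w 0 = 0
  · by_cases h0 : v 0 = 0
    · have h1 : v 1 ≠ 0 := by
        intro h1
        apply hv
        ext i
        fin_cases i
        · exact h0
        · exact h1
      refine ⟨w 1 / v 1, ?_⟩
      ext i
      fin_cases i
      · have : w 0 = 0 := by
          rw [h0, zero_mul, zero_sub, neg_eq_zero] at hd
          exact (mul_eq_zero.1 hd).resolve_left h1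
        simp only [Fin.zero_eta, Fin.isValue, Pi.smul_apply, smul_eq_mul, h0, this, mul_zero]
      · simp only [Fin.mk_one, Fin.isValue, Pi.smul_apply, smul_eq_mul]
        field_simp
    · refine ⟨w 0 / v 0, ?_⟩
      ext i
      fin_cases i
      · simp only [Fin.zero_eta, Fin.isValue, Pi.smul_apply, smul_eq_mul]
        field_simp
      · simp only [Fin.mk_one, Fin.isValue, Pi.smul_apply, smul_eq_mul]
        field_simp
        linear_combination hd
  · exfalso
    apply hX
    ext i j
    have key : ∀ r0 r1 : k, r0 * v 0 + r1 * v 1 = 0 → r0 * w 0 + r1 * w 1 = 0 → r0 = 0 ∧ r1 = 0 := by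
      intro r0 r1 h1 h2
      constructor
      · refine (mul_eq_zero.1 (?_ : (v 0 * w 1 - v 1 * w 0) * r0 = 0)).resolve_left hd
        linear_combination w 1 * h1 - v 1 * h2
      · refine (mul_eq_zero.1 (?_ : (v 0 * w 1 - v 1 * w 0) * r1 = 0)).resolve_left hd
        linear_combination v 0 * h2 - w 0 * h1
    obtain ⟨a1, a2⟩ := key (X 0 0 - c) (X 0 1) (by linear_combination e0) (by linear_combination f0)
    obtain ⟨a3, a4⟩ := key (X 1 0) (X 1 1 - c) (by linear_combination e1) (by linear_combination f1)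
    (revert i j; simp only [Fin.zero_eta, Fin.mk_one, Fin.isValue, Matrix.smul_apply, one_apply_eq, ne_eq, one_ne_zero, zero_ne_one, not_false_eq_true, one_apply_ne, smul_eq_mul, mul_one, mul_zero, _root_.Fin.forall_fin_succ, _root_.Fin.succ_zero_eq_one, _root_.IsEmpty.forall_iff, Nat.reduceAdd, _root_.Fin.succ_ne_zero, _root_.and_true, _root_.true_and]) <;> (repeat' with_reducible apply And.intro)
    · linear_combination a1
    · exact a2
    · exact a3
    · linear_combination a4

/-- odd `p`-subgroups of `SL₂`, `p ≠ char`, have a common eigenvector with faithful character -/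
theorem exists_char [IsAlgClosed k] {p : ℕ} [hp : Fact p.Prime] (hp2 : p ≠ 2) (hpk : (p : k) ≠ 0) {T : Type*}
    [Group T] [Finite T] (hT : IsPGroup p T) (f : T →* _root_.Matrix.SpecialLinearGroup (Fin 2) k) (hf : Function.Injective f) :
    ∃ (χ : T →* k) (v : Fin 2 → k), v ≠ 0 ∧ Function.Injective χ ∧ ∀ t, (f t).1 *ᵥ v = χ t • v := by
  rcases subsingleton_or_nontrivial T with hs | hn
  · refine ⟨1, fun _ => 1, fun h => one_ne_zero (congrFun h 0), Function.injective_of_subsingleton _, fun t => ?_⟩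
    have : t = 1 := Subsingleton.elim _ _
    rw [this, map_one, map_one, one_smul]
    exact one_mulVec _
  have hc : Nontrivial (Subgroup.center T) := hT.center_nontrivial
  have hpc : p ∣ Nat.card (Subgroup.center T) := by
    obtain ⟨n, hn⟩ := (hT.to_subgroup (Subgroup.center T)).exists_card_eq
    rw [hn]
    refine dvd_pow_self p ?_
    rintro rfl
    rw [pow_zero] at hn
    exact (Nat.card_eq_one_iff_unique.1 hn).1.elim |> fun _ => not_subsingleton _ (Nat.card_eq_one_iff_unique.1 hn).1
  obtain ⟨x, hx⟩ := exists_prime_orderOf_dvd_card' p hpc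
  have hx1 : (x : T) ≠ 1 := by
    intro h
    have h2 : x = 1 := Subtype.ext h
    rw [h2, orderOf_one] at hx
    exact hp.out.one_lt.ne hx
  have hxp : (x : T) ^ p = 1 := by
    have := pow_orderOf_eq_one x
    rw [hx] at this
    exact congrArg Subtype.val this
  set X : Matrix (Fin 2) (Fin 2) k := (f x).1 with hX
  have hXp : X ^ p = 1 := by
    have h1 : f ((x : T) ^ p) = 1 := by rw [hxp, map_one]
    rw [map_pow] at h1
    have := congrArg (fun A : _root_.Matrix.SpecialLinearGroup (Fin 2) k => (A : Matrix (Fin 2) (Fin 2) k)) h1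
    simpa only [_root_.Matrix.SpecialLinearGroup.coe_pow, _root_.Matrix.SpecialLinearGroup.coe_one] using this
  have hXne : X ≠ 1 := by
    intro h
    apply hx1
    apply hf
    rw [map_one]
    exact Subtype.ext h
  obtain ⟨c, hcv⟩ := Module.End.exists_eigenvalue (Matrix.toLin' X)
  obtain ⟨v, hv⟩ := hcv.exists_hasEigenvector
  have hv0 : v ≠ 0 := hv.2
  have hXv : X *ᵥ v = c • v := by
    have := hv.apply_eq_smul
    rwa [toLin'_apply] at this
  have hcp : c ^ p = 1 := by
    have h1 : ∀ n : ℕ, X ^ n *ᵥ v = c ^ n • v := by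
      intro n
      induction n with
      | zero => simp
      | succ n ih => rw [pow_succ, ← mulVec_mulVec, hXv, mulVec_smul, ih, smul_smul, pow_succ, mul_comm]
    have h2 := h1 p
    rw [hXp, one_mulVec] at h2
    have h3 : (c ^ p - 1) • v = 0 := by rw [sub_smul, one_smul, ← h2, sub_self]
    exact sub_eq_zero.1 ((smul_eq_zero.1 h3).resolve_right hv0)
  have hXc : X ≠ c • (1 : Matrix (Fin 2) (Fin 2) k) := by
    intro h
    have h1 : c ^ 2 = 1 := by
      have h2 := (f x).det_coe
      rw [← hX, h, det_smul, det_one, mul_one, Fintype.card_fin] at h2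
      exact h2
    have h3 : c = 1 := by
      obtain ⟨m, hm⟩ := hp.out.odd_of_ne_two hp2
      have h4 : c ^ p = c := by rw [hm, pow_succ, pow_mul, h1, one_pow, one_mul]
      rw [← h4, hcp]
    rw [h3, one_smul] at h
    exact hXne h
  have hex : ∀ t : T, ∃ d : k, (f t : Matrix (Fin 2) (Fin 2) k) *ᵥ v = d • v := by
    intro t
    refine exists_mul hXc hv0 hXv ?_
    have hcomm : X * (f t : Matrix (Fin 2) (Fin 2) k) = (f t : Matrix (Fin 2) (Fin 2) k) * X := by
      have h1 : (x : T) * t = t * x := ((Subgroup.mem_center_iff.1 x.2) t).symm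
      have h2 := congrArg f h1
      rw [map_mul, map_mul] at h2
      exact congrArg (fun A : _root_.Matrix.SpecialLinearGroup (Fin 2) k => (A : Matrix (Fin 2) (Fin 2) k)) h2
    rw [mulVec_mulVec, hcomm, ← mulVec_mulVec, hXv, mulVec_smul]
  choose d hd using hex
  have huniq : ∀ a b : k, a • v = b • v → a = b := by
    intro a b h
    have h3 : (a - b) • v = 0 := by rw [sub_smul, h, sub_self]
    exact sub_eq_zero.1 ((smul_eq_zero.1 h3).resolve_right hv0)
  let χ : T →* k :=
    { toFun := d
      map_one' := by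
        apply huniq
        rw [← hd, map_one, one_smul]
        exact one_mulVec v
      map_mul' := fun s t => by
        apply huniq
        have h1 : (f (s * t)).1 = (f s).1 * (f t).1 := by rw [map_mul]; rfl
        rw [← hd, h1, ← mulVec_mulVec, hd t, mulVec_smul, hd s, smul_smul, mul_comm] }
  refine ⟨χ, v, hv0, ?_, hd⟩
  rw [injective_iff_map_eq_one]
  intro t ht
  obtain ⟨n, hn⟩ := hT t
  apply hf
  rw [map_one]
  apply Subtype.ext
  refine eq_one_of_fix (n := p ^ n) (f t).det_coe hv0 ?_ ?_ ?_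
  · rw [hd t]
    have : d t = 1 := ht
    rw [this, one_smul]
  · push_cast
    exact pow_ne_zero _ hpk
  · have h1 : f (t ^ p ^ n) = 1 := by rw [hn, map_one]
    rw [map_pow] at h1
    have := congrArg (fun A : _root_.Matrix.SpecialLinearGroup (Fin 2) k => (A : Matrix (Fin 2) (Fin 2) k)) h1
    simpa only [_root_.Matrix.SpecialLinearGroup.coe_pow, _root_.Matrix.SpecialLinearGroup.coe_one] using this

/-- odd `p`-subgroups of `SL₂`, `p ≠ char`, are cyclic -/
theorem cyclic_of_sl2 [IsAlgClosed k] {p : ℕ} [hp : Fact p.Prime] (hp2 : p ≠ 2) (hpk : (p : k) ≠ 0) {T : Type*}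
    [Group T] [Finite T] (hT : IsPGroup p T) (f : T →* _root_.Matrix.SpecialLinearGroup (Fin 2) k) (hf : Function.Injective f) :
    IsCyclic T := by
  obtain ⟨χ, -, -, hχ, -⟩ := exists_char hp2 hpk hT f hf
  exact isCyclic_of_injective_ringHom χ hχ

end two

/-- 3-elements of `S₆` have order dividing 3 -/
theorem cube_six {g : Equiv.Perm (Fin 6)} {n : ℕ} (h : g ^ 3 ^ n = 1) : g ^ 3 = 1 := by
  apply Equiv.ext
  intro x
  have h1 : Function.minimalPeriod g x ∣ 3 ^ n := by
    apply Function.IsPeriodicPt.minimalPeriod_dvd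
    change (g^[3 ^ n]) x = x
    rw [← Equiv.Perm.coe_pow, h]
    rfl
  have h2 : Function.minimalPeriod g x ≤ 6 := by
    have := Function.minimalPeriod_le_card (f := g) (x := x)
    simpa using this
  obtain ⟨j, -, hj⟩ := (Nat.dvd_prime_pow Nat.prime_three).1 h1
  have h3 : j ≤ 1 := by
    by_contra hlt
    have : 3 ^ 2 ≤ 3 ^ j := Nat.pow_le_pow_right (by norm_num) (by omega)
    omega
  have h4 : Function.minimalPeriod g x ∣ 3 := by
    rw [hj]
    exact (Nat.dvd_prime_pow Nat.prime_three).2 ⟨j, h3, rfl⟩ |>.trans (by norm_num)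
  have h5 : (g^[3]) x = x := Function.isPeriodicPt_iff_minimalPeriod_dvd.2 h4
  rw [← Equiv.Perm.coe_pow] at h5
  exact h5

/-- **(R7)** a finite group of `SL₂(k)`, `char k ≠ 3`, has no quotient `A₆` -/
theorem no_A6 {k : Type*} [Field k] (h3 : (3 : k) ≠ 0) {D : Type*} [Group D] [Finite D]
    (f : D →* _root_.Matrix.SpecialLinearGroup (Fin 2) k) (ψ : D →* Equiv.Perm (Fin 6)) (hf : ∀ d, f d = 1 → ψ d = 1)
    (hψ : ∀ π : Equiv.Perm (Fin 6), Equiv.Perm.sign π = 1 → ∃ d, ψ d = π) : False := by
  have hp3 : Fact (Nat.Prime 3) := ⟨Nat.prime_three⟩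
  let K := AlgebraicClosure k
  let F : D →* _root_.Matrix.SpecialLinearGroup (Fin 2) K := (SpecialLinearGroup.map (algebraMap k K)).comp f
  have hF : ∀ d, F d = 1 → ψ d = 1 := by
    intro d hd
    apply hf
    have hinj : Function.Injective (SpecialLinearGroup.map (n := Fin 2) (algebraMap k K)) := by
      intro A B hAB
      apply Subtype.ext
      have h1 := congrArg Subtype.val hAB
      ext i j
      have h2 := congrFun (congrFun h1 i) j
      exact (algebraMap k K).injective h2
    apply hinj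
    rw [map_one]
    exact hd
  have h3K : ((3 : ℕ) : K) ≠ 0 := by
    intro h
    apply h3
    apply (algebraMap k K).injective
    rw [map_zero, ← h]
    push_cast
    exact map_ofNat _ 3
  obtain ⟨P⟩ : Nonempty (Sylow 3 D) := inferInstance
  -- the image of `P` in `SL₂` is cyclic
  have hPF : IsPGroup 3 ((P : Subgroup D).map F : Subgroup _) := P.isPGroup'.map F
  have hfin : Finite ((P : Subgroup D).map F) := by
    have : Finite (P : Subgroup D) := inferInstance
    exact Finite.of_surjective _ (F.subgroupMap_surjective (P : Subgroup D))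
  have hcyc : IsCyclic ((P : Subgroup D).map F) :=
    cyclic_of_sl2 (by norm_num) h3K hPF ((P : Subgroup D).map F).subtype Subtype.val_injective
  obtain ⟨⟨_, g, hg, rfl⟩, hgen⟩ := hcyc.exists_generator
  -- the image of `P` in `R = ψ(D)`
  set Q : Subgroup ψ.range := (P : Subgroup D).map ψ.rangeRestrict with hQ
  have hQle : Q ≤ Subgroup.zpowers (ψ.rangeRestrict g) := by
    rintro _ ⟨x, hx, rfl⟩
    obtain ⟨n, hn⟩ := Subgroup.mem_zpowers_iff.1 (hgen ⟨F x, x, hx, rfl⟩)
    have h1 : F g ^ n = F x := congrArg Subtype.val hn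
    have h2 : F (x * (g ^ n)⁻¹) = 1 := by
      rw [map_mul, map_inv, map_zpow, h1, mul_inv_cancel]
    have h3 := hF _ h2
    rw [map_mul, map_inv, map_zpow, mul_inv_eq_one] at h3
    refine Subgroup.mem_zpowers_iff.2 ⟨n, Subtype.ext ?_⟩
    exact h3.symm
  have hg3 : ψ.rangeRestrict g ^ 3 = 1 := by
    obtain ⟨n, hn⟩ := P.isPGroup' ⟨g, hg⟩
    have h1 : g ^ 3 ^ n = 1 := congrArg Subtype.val hn
    have h2 : ψ g ^ 3 ^ n = 1 := by rw [← map_pow, h1, map_one]
    exact Subtype.ext (cube_six h2)
  have hQcard : Nat.card Q ∣ 3 := by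
    refine (Subgroup.card_dvd_of_le hQle).trans ?_
    rw [Nat.card_zpowers]
    exact orderOf_dvd_of_pow_eq_one hg3
  have hidx : ¬ 3 ∣ Q.index := by
    intro h
    exact P.not_dvd_index (h.trans (Subgroup.index_map_dvd _ ψ.rangeRestrict_surjective))
  have hA : alternatingGroup (Fin 6) ≤ ψ.range := by
    intro π hπ
    obtain ⟨d, hd⟩ := hψ π (Equiv.Perm.mem_alternatingGroup.1 hπ)
    exact ⟨d, hd⟩
  have h360 : 360 ∣ Nat.card ψ.range := by
    have h1 := Subgroup.card_dvd_of_le hA
    have h4 : Nat.card (alternatingGroup (Fin 6)) = 360 := by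
      rw [nat_card_alternatingGroup]; simp [Nat.factorial]
    rwa [h4] at h1
  have h9 : 9 ∣ Nat.card Q * Q.index := by
    rw [Subgroup.card_mul_index]
    exact (by norm_num : 9 ∣ 360).trans h360
  have h9' : 9 ∣ Nat.card Q := by
    have hc : Nat.Coprime 9 Q.index := by
      have : Nat.Coprime 3 Q.index := (Nat.Prime.coprime_iff_not_dvd Nat.prime_three).2 hidx
      exact Nat.Coprime.pow_left 2 this
    exact hc.dvd_of_dvd_mul_right h9
  have := h9'.trans hQcard
  norm_num at this

/-- two factors -/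
theorem no_A6_two {k : Type*} [Field k] (h3 : (3 : k) ≠ 0) {D : Type*} [Group D] [Finite D]
    (f₁ f₂ : D →* _root_.Matrix.SpecialLinearGroup (Fin 2) k) (ψ : D →* Equiv.Perm (Fin 6))
    (hf : ∀ d, f₁ d = 1 → f₂ d = 1 → ψ d = 1) (hψ0 : ∀ d, Equiv.Perm.sign (ψ d) = 1)
    (hψ : ∀ π : Equiv.Perm (Fin 6), Equiv.Perm.sign π = 1 → ∃ d, ψ d = π) : False := by
  have h6 : IsSimpleGroup (alternatingGroup (Fin 6)) := alternatingGroup.isSimpleGroup (by simp)
  let φ : D →* alternatingGroup (Fin 6) := ψ.codRestrict _ fun d => Equiv.Perm.mem_alternatingGroup.2 (hψ0 d)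
  have hφ : Function.Surjective φ := by
    intro π
    obtain ⟨d, hd⟩ := hψ π (Equiv.Perm.mem_alternatingGroup.1 π.2)
    exact ⟨d, Subtype.ext hd⟩
  have hφ1 : ∀ d, φ d = 1 ↔ ψ d = 1 := fun d => ⟨fun h => congrArg Subtype.val h, fun h => Subtype.ext h⟩
  have hcomm : ∀ a ∈ f₁.ker, ∀ b ∈ f₂.ker, φ a * φ b = φ b * φ a := by
    intro a ha b hb
    have h1 : φ (a * b * a⁻¹ * b⁻¹) = 1 := by
      rw [hφ1]
      apply hf
      · have : f₁ a = 1 := ha
        rw [map_mul, map_mul, map_mul, map_inv, map_inv, this]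
        group
      · have : f₂ b = 1 := hb
        rw [map_mul, map_mul, map_mul, map_inv, map_inv, this]
        group
    rw [map_mul, map_mul, map_mul, map_inv, map_inv, mul_inv_eq_one, mul_inv_eq_iff_eq_mul] at h1
    exact h1
  have hN1 : (f₁.ker.map φ).Normal := Subgroup.Normal.map inferInstance φ hφ
  have hN2 : (f₂.ker.map φ).Normal := Subgroup.Normal.map inferInstance φ hφ
  rcases hN1.eq_bot_or_eq_top with h | h
  · refine no_A6 h3 f₁ ψ (fun d hd => ?_) hψ
    have h1 : φ d ∈ f₁.ker.map φ := ⟨d, hd, rfl⟩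
    rw [h, Subgroup.mem_bot] at h1
    exact (hφ1 d).1 h1
  rcases hN2.eq_bot_or_eq_top with h' | h'
  · refine no_A6 h3 f₂ ψ (fun d hd => ?_) hψ
    have h1 : φ d ∈ f₂.ker.map φ := ⟨d, hd, rfl⟩
    rw [h', Subgroup.mem_bot] at h1
    exact (hφ1 d).1 h1
  · have hab : ∀ a b : alternatingGroup (Fin 6), a * b = b * a := by
      intro a b
      have ha : a ∈ f₁.ker.map φ := by rw [h]; exact Subgroup.mem_top a
      have hb : b ∈ f₂.ker.map φ := by rw [h']; exact Subgroup.mem_top b
      obtain ⟨a, ha, rfl⟩ := ha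
      obtain ⟨b, hb, rfl⟩ := hb
      exact hcomm a ha b hb
    have h1 := hab ⟨Equiv.swap 0 1 * Equiv.swap 1 2, Equiv.Perm.mem_alternatingGroup.2 (by decide)⟩
      ⟨Equiv.swap 0 1 * Equiv.swap 1 3, Equiv.Perm.mem_alternatingGroup.2 (by decide)⟩
    have h2 := congrArg Subtype.val h1
    revert h2
    decide

end Cfsg.Agent.H754.Co3
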